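import Groth.Agent.Sga67.ExtSheaf

/-!
# Exterior powers and restriction to opens, isomorphisms
-/

set_option autoImplicit false
set_option linter.style.haveILetI false
universe u

open CategoryTheory CategoryTheory.Limits AlgebraicGeometry Opposite TopologicalSpace

namespace Groth.Agent.Dual.H375.ExtRestr

open Groth.Agent.Sga67.Sec Groth.Agent.Sga67.LocBasis Groth.Agent.Sga67.ExtSheaf

variable {X : Scheme.{u}}

theorem hom_ext_affine {M N : X.Modules} {f g : M ⟶ N}
    (H : ∀ (U : X.affineOpens) (s : Sec M U.1), appS f U.1 s = appS g U.1 s) : f = g := by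
  apply hom_ext_of_locally
  intro x U hxU
  obtain ⟨_, ⟨V, rfl⟩, hxV, hV⟩ := Opens.isBasis_iff_nbhd.mp (affineBasis X) hxU
  exact ⟨V.1, hV, hxV, H V⟩

/-- Exterior powers of isomorphic modules are isomorphic. -/
theorem nonempty_iso {q : ℕ} {E F L K : X.Modules} (e : E ≅ F) (hL : ExtPow.IsExtPow q E L)
    (hK : ExtPow.IsExtPow q F K) : Nonempty (L ≅ K) := by
  obtain ⟨φ, hφ⟩ := exists_phi hL
  obtain ⟨ψ, hψ⟩ := exists_phi hK
  obtain ⟨g, hg⟩ := exists_extMap e.hom φ hφ ψ hψ
  obtain ⟨g', hg'⟩ := exists_extMap e.inv ψ hψ φ hφ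
  have h1 : g ≫ g' = 𝟙 L := by
    apply hom_ext_affine
    intro U s
    apply (φ U).injective
    rw [appS_comp, appS_id, hg', hg, ← LinearMap.comp_apply, ← exteriorPower.map_comp]
    have : (appS e.inv U.1) ∘ₗ (appS e.hom U.1) = LinearMap.id := by
      ext x
      simp
    rw [this, exteriorPower.map_id]
    rfl
  have h2 : g' ≫ g = 𝟙 K := by
    apply hom_ext_affine
    intro U s
    apply (ψ U).injective
    rw [appS_comp, appS_id, hg, hg', ← LinearMap.comp_apply, ← exteriorPower.map_comp]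
    have : (appS e.hom U.1) ∘ₗ (appS e.inv U.1) = LinearMap.id := by
      ext x
      simp
    rw [this, exteriorPower.map_id]
    rfl
  exact ⟨⟨g, g', h1, h2⟩⟩

section Restrict

variable (U : X.Opens)

/-- Sections over `U.ι ''ᵁ W` as a module over `Γ(U, W)`. -/
noncomputable abbrev modU (M : X.Modules) (W : (U : Scheme.{u}).Opens) :
    Module Γ(U, W) (Sec M (U.ι ''ᵁ W)) :=
  inferInstanceAs (Module Γ(X, U.ι ''ᵁ W) (Sec M (U.ι ''ᵁ W)))

theorem smul_eq (M : X.Modules) (W : (U : Scheme.{u}).Opens) (r : Γ(U, W))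
    (x : Sec (M.restrict U.ι) W) :
    r • x = (show Γ(X, U.ι ''ᵁ W) from r) • (show Sec M (U.ι ''ᵁ W) from x) := by
  have h1 : r • x = ((U.ι.appIso W).inv r : Γ(X, U.ι ''ᵁ W)) • (show Sec M (U.ι ''ᵁ W) from x) := rfl
  rw [h1, Scheme.Opens.ι_appIso]
  rfl


/-- Sections of the restriction. -/
noncomputable def secEquiv (M : X.Modules) (W : (U : Scheme.{u}).Opens) :
    letI := modU U M W
    (Sec (M.restrict U.ι) W) ≃ₗ[Γ(U, W)] (Sec M (U.ι ''ᵁ W)) :=
  letI := modU U M W
  { toFun := fun x => x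
    invFun := fun x => x
    left_inv := fun _ => rfl
    right_inv := fun _ => rfl
    map_add' := fun _ _ => rfl
    map_smul' := fun r x => smul_eq U M W r x }

/-- Linear equivalences induce equivalences on exterior powers. -/
noncomputable def extCongr {A : Type*} [CommRing A] {M N : Type*} [AddCommGroup M] [Module A M]
    [AddCommGroup N] [Module A N] (q : ℕ) (e : M ≃ₗ[A] N) : (⋀[A]^q M) ≃ₗ[A] (⋀[A]^q N) :=
  LinearEquiv.ofLinearMap (exteriorPower.map q e.toLinearMap) (exteriorPower.map q e.symm.toLinearMap)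
    (by rw [← exteriorPower.map_comp]; simp [exteriorPower.map_id])
    (by rw [← exteriorPower.map_comp]; simp [exteriorPower.map_id])

theorem extCongr_symm_ιMulti {A : Type*} [CommRing A] {M N : Type*} [AddCommGroup M] [Module A M]
    [AddCommGroup N] [Module A N] (q : ℕ) (e : M ≃ₗ[A] N) (x : Fin q → M) :
    (extCongr q e) (exteriorPower.ιMulti A q x) = exteriorPower.ιMulti A q (fun i => e (x i)) := by
  change exteriorPower.map q e.toLinearMap _ = _
  rw [exteriorPower.map_apply_ιMulti]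
  rfl

/-- Exterior powers restrict to opens. -/
theorem isExtPow_restrict {q : ℕ} {E L : X.Modules} (h : ExtPow.IsExtPow q E L) :
    ExtPow.IsExtPow q (E.restrict U.ι) (L.restrict U.ι) := by
  obtain ⟨φ, hφ⟩ := exists_phi h
  let im : (U : Scheme.{u}).affineOpens → X.affineOpens := fun W =>
    ⟨U.ι ''ᵁ W.1, W.2.image_of_isOpenImmersion U.ι⟩
  let φ0 : ∀ W : (U : Scheme.{u}).affineOpens,
      letI := modU U E W.1
      letI := modU U L W.1
      (Sec L (U.ι ''ᵁ W.1)) ≃ₗ[Γ(U, W.1)] (⋀[Γ(U, W.1)]^q (Sec E (U.ι ''ᵁ W.1))) := fun W => φ (im W)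
  let ψ : Phi q (E.restrict U.ι) (L.restrict U.ι) := fun W =>
    letI := modU U E W.1
    letI := modU U L W.1
    (secEquiv U L W.1).trans ((φ0 W).trans (extCongr q (secEquiv U E W.1)).symm)
  have hψ : ∀ (W : (U : Scheme.{u}).affineOpens) (e : Fin q → Sec (E.restrict U.ι) W.1),
      (ψ W).symm (exteriorPower.ιMulti _ q e) =
        (φ (im W)).symm (exteriorPower.ιMulti Γ(X, U.ι ''ᵁ W.1) q (M := Sec E (U.ι ''ᵁ W.1)) e) := by
    intro W e
    letI := modU U E W.1
    letI := modU U L W.1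
    change (secEquiv U L W.1).symm ((φ0 W).symm ((extCongr q (secEquiv U E W.1))
      (exteriorPower.ιMulti _ q e))) = _
    rw [extCongr_symm_ιMulti]
    rfl
  refine ⟨ψ, ?_⟩
  intro W W' hW e
  rw [hψ, hψ]
  exact hφ (im W) (im W') (Scheme.Hom.image_mono _ hW) e

end Restrict

end Groth.Agent.Dual.H375.ExtRestr
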